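import Mathlib
import Cfsg.Agent.H407.Spec

/-!
# `PSL(6, 3)` has no elements of order 28 (helper450)

`det_quad` : a `6 × 6` matrix over `ZMod 3` with `y * y + s • y = 1`, `s = ± 1`, has determinant `-1`.
-/

set_option autoImplicit false
set_option maxRecDepth 100000

namespace Cfsg.Agent.H450.LSix

open Matrix Module Polynomial
open Cfsg.Agent.H407 Cfsg.Agent.H407.Mats

noncomputable abbrev qd (s : ZMod 3) : (ZMod 3)[X] := X ^ 2 + C s * X - 1

theorem qd_natDegree (s : ZMod 3) : (qd s).natDegree = 2 := by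
  unfold qd; compute_degree!

theorem qd_monic (s : ZMod 3) : (qd s).Monic := by
  unfold qd; monicity!

theorem qd_irreducible {s : ZMod 3} (hs : s ≠ 0) : Irreducible (qd s) := by
  apply Polynomial.irreducible_of_degree_le_three_of_not_isRoot
  · rw [qd_natDegree]; decide
  · intro x hx
    rw [IsRoot, qd, eval_sub, eval_add, eval_mul, eval_C, eval_pow, eval_X, eval_one] at hx
    revert hx hs
    revert x s
    decide

theorem det_quad {y : Matrix (Fin 6) (Fin 6) (ZMod 3)} {s : ZMod 3} (hs : s ≠ 0) (h : y * y + s • y = 1) :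
    y.det = -1 := by
  set y' : Matrix (Fin 6) (Fin 6) (ZMod 3) := -(s • 1) - y with hy'
  have hprod : y.charpoly * y'.charpoly = (qd s) ^ 6 := by
    rw [Matrix.charpoly, Matrix.charpoly, ← det_mul]
    have h1 : y.charmatrix * y'.charmatrix = Matrix.scalar (Fin 6) (qd s) := by
      set f : Matrix (Fin 6) (Fin 6) (ZMod 3) →+* Matrix (Fin 6) (Fin 6) (ZMod 3)[X] := C.mapMatrix with hf
      have e1 : y.charmatrix = Matrix.scalar (Fin 6) X - f y := rfl
      have e2 : y'.charmatrix = Matrix.scalar (Fin 6) X + Matrix.scalar (Fin 6) (C s) + f y := by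
        change Matrix.scalar (Fin 6) X - f y' = _
        rw [hy', map_sub, map_neg]
        have e3 : f (s • 1) = Matrix.scalar (Fin 6) (C s) := by
          rw [hf]
          ext i j
          rw [RingHom.mapMatrix_apply, Matrix.map_apply, Matrix.smul_apply, Matrix.one_apply, Matrix.scalar_apply,
            Matrix.diagonal_apply]
          split_ifs <;> simp
        rw [e3]
        abel
      have e4 : f y * f y + Matrix.scalar (Fin 6) (C s) * f y = 1 := by
        have e5 := congrArg f h
        rw [map_add, map_mul, map_one] at e5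
        rw [← e5]
        congr 1
        ext i j
        rw [hf, RingHom.mapMatrix_apply, RingHom.mapMatrix_apply, Matrix.map_apply, Matrix.smul_apply,
          Matrix.scalar_apply, Matrix.diagonal_mul, Matrix.map_apply, smul_eq_mul, C_mul]
      have c1 : Commute (Matrix.scalar (Fin 6) (X : (ZMod 3)[X])) (f y) := Matrix.scalar_commute _ (Commute.all _) _
      have c2 : Commute (Matrix.scalar (Fin 6) (C s : (ZMod 3)[X])) (f y) := Matrix.scalar_commute _ (Commute.all _) _
      have e6 : Matrix.scalar (Fin 6) (qd s) = Matrix.scalar (Fin 6) X * Matrix.scalar (Fin 6) X +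
          Matrix.scalar (Fin 6) X * Matrix.scalar (Fin 6) (C s) - 1 := by
        rw [← map_mul, ← map_mul, ← map_add, ← map_one (Matrix.scalar (Fin 6)), ← map_sub]
        congr 1
        rw [qd]; ring
      rw [e1, e2, e6, ← e4]
      rw [sub_mul, mul_add, mul_add, mul_add, mul_add, c1.eq, c2.eq]
      abel
    rw [h1, Matrix.scalar_apply, Matrix.det_diagonal]
    simp
  have hirr : Prime (qd s) := (qd_irreducible hs).prime
  obtain ⟨i, _, hi⟩ := (dvd_prime_pow hirr 6).1 (Dvd.intro _ hprod)
  have heq : y.charpoly = (qd s) ^ i := eq_of_monic_of_associated y.charpoly_monic ((qd_monic s).pow i) hi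
  have hdeg := congrArg natDegree heq
  rw [Matrix.charpoly_natDegree_eq_dim, Fintype.card_fin, natDegree_pow, qd_natDegree] at hdeg
  have hi3 : i = 3 := by omega
  rw [hi3] at heq
  rw [Matrix.det_eq_sign_charpoly_coeff, heq, Fintype.card_fin, coeff_zero_eq_eval_zero, eval_pow, qd]
  simp
  decide

theorem quad_id {R : Type*} [Ring R] (Y : R) (h3 : (3 : R) = 0) (h : Y * Y * (Y * Y) = -1) :
    (Y * Y + Y - 1) * (Y * Y + (Y + Y) - 1) = 0 := by
  have e : (Y * Y + Y - 1) * (Y * Y + (Y + Y) - 1) = Y * Y * (Y * Y) + 1 + 3 * (Y * Y * Y - Y) := by noncomm_ring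
  rw [e, h, h3, zero_mul, add_zero, neg_add_cancel]

theorem val_mul (g h : SL6) : (g * h).1 = g.1 * h.1 := rfl

theorem no28 (x : L6) : orderOf x ≠ 28 := by
  intro hx
  obtain ⟨g, rfl⟩ := pr_surj x
  have hdv : ∀ n : ℕ, pr (g ^ n) = 1 → 28 ∣ n := by
    intro n h
    rw [map_pow] at h
    have := orderOf_dvd_of_pow_eq_one h
    rwa [hx] at this
  have h28 : pr (g ^ 28) = 1 := by rw [map_pow, ← hx, pow_orderOf_eq_one]
  have h56 : g ^ 56 = 1 := by
    rcases pr_eq_one.1 h28 with h | h
    · rw [show 56 = 28 * 2 from rfl, pow_mul, h, one_pow]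
    · rw [show 56 = 28 * 2 from rfl, pow_mul, h, pow_two, m1_sq]
  have hb7 : E (g ^ 8) ^ 7 = 1 := by
    rw [← map_pow, ← pow_mul, h56, map_one]
  have hb1 : E (g ^ 8) ≠ 1 := by
    intro h
    have h1 := E_eq_one h
    have := hdv 8 (by rw [h1, map_one])
    omega
  -- a polynomial in `g` is zero or invertible
  have key : ∀ z : End (ZMod 3) (Fin 6 → ZMod 3), E (g ^ 8) * z = z * E (g ^ 8) → z = 0 ∨ Function.Injective z := by
    intro z hz
    rcases Fix.irr7 finrank_six hb7 hb1 (LinearMap.ker z) (fun w hw => by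
      rw [LinearMap.mem_ker] at hw ⊢
      rw [← Module.End.mul_apply, ← hz, Module.End.mul_apply, hw, map_zero]) with h | h
    · right
      rw [Submodule.finrank_eq_zero] at h
      exact LinearMap.ker_eq_bot.1 h
    · left
      have h1 : LinearMap.ker z = ⊤ := Submodule.eq_top_of_finrank_eq (by rw [h, finrank_six])
      exact LinearMap.ker_eq_top.1 h1
  have key2 : ∀ z w : End (ZMod 3) (Fin 6 → ZMod 3), E (g ^ 8) * z = z * E (g ^ 8) → z * w = 0 → z = 0 ∨ w = 0 := by
    intro z w hz hzw
    rcases key z hz with h | h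
    · exact Or.inl h
    · right
      refine LinearMap.ext fun v => h ?_
      have := congrArg (fun f => f v) hzw
      simpa using this
  set Y := E (g ^ 7) with hY
  have hc : E (g ^ 8) * Y = Y * E (g ^ 8) := by
    rw [hY, ← map_mul, ← map_mul, ← pow_add, ← pow_add]
  have hc2 : E (g ^ 8) * (Y * Y) = Y * Y * E (g ^ 8) := by
    rw [← mul_assoc, hc, mul_assoc, hc, mul_assoc]
  rcases pr_eq_one.1 h28 with h | h
  · have hY4 : Y * Y * (Y * Y) = 1 := by
      rw [hY, ← map_mul, ← map_mul, ← pow_add, ← pow_add, show 7 + 7 + (7 + 7) = 28 from rfl, h, map_one]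
    rcases key2 (Y * Y - 1) (Y * Y + 1) (by rw [mul_sub, sub_mul, hc2, mul_one, one_mul]) (by
      rw [sub_mul, mul_add, hY4, mul_one, one_mul]; abel) with h1 | h1
    · have h2 : E (g ^ 14) = 1 := by
        rw [show 14 = 7 + 7 from rfl, pow_add, map_mul]
        exact sub_eq_zero.1 h1
      have := hdv 14 (by rw [E_eq_one h2, map_one])
      omega
    · have h2 : E (g ^ 14) = E m1 := by
        rw [show 14 = 7 + 7 from rfl, pow_add, map_mul, E_m1]
        exact eq_neg_of_add_eq_zero_left h1
      have := hdv 14 (by rw [E_inj h2, pr_m1])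
      omega
  · have hY4 : Y * Y * (Y * Y) = -1 := by
      rw [hY, ← map_mul, ← map_mul, ← pow_add, ← pow_add, show 7 + 7 + (7 + 7) = 28 from rfl, h, E_m1]
    have hdet : (g ^ 7).1.det = 1 := (g ^ 7).2
    have fin : ∀ s : ZMod 3, s ≠ 0 → Y * Y + s • Y - 1 = 0 → False := by
      intro s hs h1
      have h2 : (g ^ 7).1 * (g ^ 7).1 + s • (g ^ 7).1 = 1 := by
        apply (Matrix.toLin' : Matrix (Fin 6) (Fin 6) (ZMod 3) ≃ₗ[ZMod 3] _).injective
        rw [map_add, map_smul, Matrix.toLin'_mul, Matrix.toLin'_one]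
        exact sub_eq_zero.1 h1
      have h3 := det_quad hs h2
      rw [hdet] at h3
      revert h3
      decide
    have h3 : (3 : End (ZMod 3) (Fin 6 → ZMod 3)) = 0 := by
      have : ((3 : ℕ) : End (ZMod 3) (Fin 6 → ZMod 3)) = algebraMap (ZMod 3) _ ((3 : ℕ) : ZMod 3) := by
        rw [map_natCast]
      have h4 : ((3 : ℕ) : ZMod 3) = 0 := by decide
      rw [h4, map_zero] at this
      exact_mod_cast this
    rcases key2 (Y * Y + (1 : ZMod 3) • Y - 1) (Y * Y + (2 : ZMod 3) • Y - 1) (by
      rw [mul_sub, sub_mul, mul_add, add_mul, hc2, mul_one, one_mul, one_smul, hc]) (by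
      rw [one_smul, two_smul]
      exact quad_id Y h3 hY4) with h4 | h4
    · exact fin 1 (by decide) h4
    · exact fin 2 (by decide) h4

end Cfsg.Agent.H450.LSix
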